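import Cfsg.Agent.H685.Alperin
import Cfsg.Agent.H133.PB.Basic

/-!
# S4880, piece B8b: normal subgroups with Sylow `p`-subgroup of order `p` and large inertial index
-/

set_option autoImplicit false

open Cfsg

namespace Cfsg.Agent.H590.OneP

universe u

variable {p : ℕ} [hp : Fact p.Prime] {M : Ideal AlgInt}

/-- `|N_X(P) : C_X(P)|` divides `p - 1` if `|P| = p`. -/
theorem relIndex_dvd_pred {X : Type u} [Group X] [Finite X] (P : Subgroup X)
    (hP : Nat.card P = p) :
    (Subgroup.centralizer (P : Set X)).relIndex (Subgroup.normalizer (P : Set X)) ∣ p - 1 := by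
  have key := Subgroup.card_dvd_of_injective _
    (QuotientGroup.kerLift_injective P.normalizerMonoidHom)
  rw [Subgroup.normalizerMonoidHom_ker, ← Subgroup.index, ← Subgroup.relIndex] at key
  have : IsCyclic P := isCyclic_of_prime_card hP
  rwa [IsCyclic.card_mulAut, hP, Nat.totient_prime hp.out] at key

/-- The normalizer of `P` normalizes `C_X(P)`. -/
theorem conj_mem_centralizer {X : Type u} [Group X] {P : Subgroup X} {n z : X}
    (hn : n ∈ Subgroup.normalizer (P : Set X)) (hz : z ∈ Subgroup.centralizer (P : Set X)) :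
    n * z * n⁻¹ ∈ Subgroup.centralizer (P : Set X) := by
  rw [Subgroup.mem_centralizer_iff] at hz ⊢
  intro y hy
  have h1 : n⁻¹ * y * n ∈ P := by
    have := (Subgroup.mem_normalizer_iff.1 (Subgroup.inv_mem _ hn) y).1 hy
    rwa [inv_inv] at this
  have h2 := hz _ h1
  calc y * (n * z * n⁻¹) = n * ((n⁻¹ * y * n) * z) * n⁻¹ := by group
    _ = n * (z * (n⁻¹ * y * n)) * n⁻¹ := by rw [h2]
    _ = n * z * n⁻¹ * y := by group

/-- `C C_X(P)` is normal in `X` if `P ≤ C` is a Sylow `p`-subgroup and `C` is normal. -/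
theorem normal_sup {X : Type u} [Group X] [Finite X] (C : Subgroup X) [hC : C.Normal]
    (P : Sylow p X) (hPC : (P : Subgroup X) ≤ C) :
    (C ⊔ Subgroup.centralizer ((P : Subgroup X) : Set X)).Normal := by
  have hF := Sylow.normalizer_sup_eq_top' P hPC
  rw [← Subgroup.normalizer_eq_top_iff, eq_top_iff, ← hF, sup_le_iff]
  constructor
  · intro n hn
    have key : ∀ n ∈ Subgroup.normalizer ((P : Subgroup X) : Set X),
        ∀ x ∈ C ⊔ Subgroup.centralizer ((P : Subgroup X) : Set X),
          n * x * n⁻¹ ∈ C ⊔ Subgroup.centralizer ((P : Subgroup X) : Set X) := by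
      intro n hn x hx
      rw [← SetLike.mem_coe, Subgroup.normal_mul] at hx
      obtain ⟨c, hc, z, hz, rfl⟩ := Set.mem_mul.1 hx
      have h1 : n * (c * z) * n⁻¹ = (n * c * n⁻¹) * (n * z * n⁻¹) := by group
      rw [h1]
      exact Subgroup.mul_mem_sup (hC.conj_mem c hc n) (conj_mem_centralizer hn hz)
    rw [Subgroup.mem_normalizer_iff]
    intro x
    refine ⟨key n hn x, fun hx => ?_⟩
    have h2 := key n⁻¹ (Subgroup.inv_mem _ hn) _ hx
    have h3 : n⁻¹ * (n * x * n⁻¹) * n⁻¹⁻¹ = x := by group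
    rwa [h3] at h2
  · exact le_sup_left.trans Subgroup.le_normalizer

/-- The index of `C C_X(P)`: `1`, or `2` and then the inertial index of `X` is `p - 1`. -/
theorem index_cases {X : Type u} [Group X] [Finite X]
    (C : Subgroup X) [C.Normal] (P : Sylow p X) (hP : Nat.card P = p) (hPC : (P : Subgroup X) ≤ C)
    (hE : p - 1 ≤ 2 * (Subgroup.centralizer ((P : Subgroup X) : Set X)).relIndex
      (Subgroup.normalizer ((P : Subgroup X) : Set X) ⊓ C)) :
    (C ⊔ Subgroup.centralizer ((P : Subgroup X) : Set X)).index = 1 ∨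
      ((C ⊔ Subgroup.centralizer ((P : Subgroup X) : Set X)).index = 2 ∧
        (Subgroup.centralizer ((P : Subgroup X) : Set X)).relIndex
          (Subgroup.normalizer ((P : Subgroup X) : Set X)) = p - 1) := by
  have hAn := normal_sup C P hPC
  set Z := Subgroup.centralizer ((P : Subgroup X) : Set X) with hZ
  set N := Subgroup.normalizer ((P : Subgroup X) : Set X) with hN
  set A := C ⊔ Z with hA
  have hZN : Z ≤ N := by
    intro z hz
    rw [hN, Subgroup.mem_normalizer_iff]
    have hz' := Subgroup.mem_centralizer_iff.1 hz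
    have hz2 := Subgroup.mem_centralizer_iff.1 (Subgroup.inv_mem _ hz)
    intro x
    constructor
    · intro hx
      have h1 : z * x * z⁻¹ = x := by
        rw [← hz' x hx]; group
      rwa [h1]
    · intro hx
      have h1 : x = z * x * z⁻¹ := by
        have := hz2 _ hx
        calc x = z⁻¹ * (z * x * z⁻¹) * z := by group
          _ = z * x * z⁻¹ * z⁻¹ * z := by rw [← this]
          _ = z * x * z⁻¹ := by group
      rwa [h1]
  have hAN : A ⊔ N = ⊤ := by
    rw [eq_top_iff, ← Sylow.normalizer_sup_eq_top' P hPC, sup_comm]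
    exact sup_le_sup_right le_sup_left _
  have h1 : A.index = A.relIndex N := by
    rw [← Subgroup.relIndex_top_right, ← hAN, Subgroup.relIndex_sup_left]
  have h2 : Z.relIndex (A ⊓ N) * (A ⊓ N).relIndex N = Z.relIndex N :=
    Subgroup.relIndex_mul_relIndex _ _ _ (le_inf le_sup_right hZN) inf_le_right
  rw [Subgroup.inf_relIndex_right, ← h1] at h2
  have h3 : Z.relIndex N ∣ p - 1 := relIndex_dvd_pred (P : Subgroup X) hP
  have hp1 : 0 < p - 1 := Nat.sub_pos_of_lt hp.out.one_lt
  have h4 : Z.relIndex (N ⊓ C) ≤ Z.relIndex (A ⊓ N) := by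
    refine Subgroup.relIndex_le_of_le_right ?_ Subgroup.index_ne_zero_of_finite
    exact le_inf (inf_le_right.trans le_sup_left) inf_le_left
  have h5 : Z.relIndex N ≤ p - 1 := Nat.le_of_dvd hp1 h3
  have h6 : 0 < Z.relIndex (A ⊓ N) := Nat.pos_of_ne_zero Subgroup.index_ne_zero_of_finite
  have h7 : 0 < A.index := Nat.pos_of_ne_zero Subgroup.index_ne_zero_of_finite
  have h8 : A.index ≤ 2 := by
    by_contra h
    push Not at h
    have : Z.relIndex (A ⊓ N) * 3 ≤ Z.relIndex (A ⊓ N) * A.index := Nat.mul_le_mul_left _ h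
    omega
  rcases (by omega : A.index = 1 ∨ A.index = 2) with h | h
  · exact Or.inl h
  · refine Or.inr ⟨h, ?_⟩
    rw [h] at h2
    omega

/-- Every character of `B₀(C)` is the restriction of one of `B₀(C C_X(P))`. -/
theorem exists_ext {X : Type u} [Group X] [Finite X] (hM : IsPModular p M)
    (C : Subgroup X) [hC : C.Normal] (P : Sylow p X) (hPC : (P : Subgroup X) ≤ C)
    {A : Subgroup X} (hA : A = C ⊔ Subgroup.centralizer ((P : Subgroup X) : Set X))
    {ψ : IrrCharacter C} (hψ : ψ ∈ principalBlock M C) :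
    ∃ θ : IrrCharacter A, θ ∈ principalBlock M A ∧
      ∀ (s : C) (hs : (s : X) ∈ A), (θ : A → ℂ) ⟨s, hs⟩ = (ψ : C → ℂ) s := by
  classical
  have := Blocks.Local.isPrime_of_isPModular hM
  have hCA : C ≤ A := by rw [hA]; exact le_sup_left
  let e : C.subgroupOf A ≃* C := Subgroup.subgroupOfEquivOfLe hCA
  have hmem := H133.PB.mem_principalBlock_comp (M := M) e.toMonoidHom e.surjective hψ
  have : (C.subgroupOf A).Normal := inferInstance
  have hPA : (P : Subgroup X) ≤ A := hPC.trans hCA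
  have hidx : ¬ p ∣ (C.subgroupOf A).index := by
    intro h
    have h1 : p ∣ C.index := h.trans (by
      rw [← Subgroup.relIndex]
      exact Subgroup.relIndex_dvd_index_of_normal C A)
    exact P.not_dvd_index (h1.trans (Subgroup.index_dvd_of_le hPC))
  have hsup : C.subgroupOf A ⊔
      Subgroup.centralizer (((P.subtype hPA : Sylow p A) : Subgroup A) : Set A) = ⊤ := by
    rw [eq_top_iff]
    rintro ⟨x, hx⟩ -
    have hx' := hx
    rw [hA, ← SetLike.mem_coe, Subgroup.normal_mul] at hx'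
    obtain ⟨c, hc, z, hz, rfl⟩ := Set.mem_mul.1 hx'
    have hcA : c ∈ A := hCA hc
    have hzA : z ∈ A := by rw [hA]; exact (le_sup_right : _ ≤ C ⊔ _) hz
    have h1 : (⟨c * z, hx⟩ : A) = ⟨c, hcA⟩ * ⟨z, hzA⟩ := rfl
    rw [h1]
    refine Subgroup.mul_mem_sup (Subgroup.mem_subgroupOf.2 hc) ?_
    rw [Subgroup.mem_centralizer_iff]
    intro y hy
    apply Subtype.ext
    have hy' : (y : X) ∈ (P : Subgroup X) := by
      have : y ∈ ((P.subtype hPA : Sylow p A) : Subgroup A) := hy
      rw [Sylow.coe_subtype, Subgroup.mem_subgroupOf] at this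
      exact this
    exact (Subgroup.mem_centralizer_iff.1 hz) _ hy'
  have := Fintype.ofFinite (C.subgroupOf A)
  obtain ⟨θ, hθ, hover⟩ := H685.Alperin.exists_over hM hidx (P.subtype hPA) hsup hmem
  have hirr := H685.Alperin.isIrr_restrict hM (P.subtype hPA) hsup hθ
  refine ⟨θ, hθ, fun s hs => ?_⟩
  have heq : ((ψ : C → ℂ) ∘ e.toMonoidHom : C.subgroupOf A → ℂ) =
      (fun n : C.subgroupOf A => (θ : A → ℂ) n) := by
    by_contra hne
    exact hover (Cfsg.Agent.Characters.Core.classInner_irr_ne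
      (Cfsg.Agent.Characters.Core.isIrr_comp e.toMonoidHom e.surjective ψ.2) hirr hne)
  have h1 := congrFun heq ⟨⟨s, hs⟩, Subgroup.mem_subgroupOf.2 s.2⟩
  exact h1.symm

/-- B8b, relative to B8a (`index_two`) for the group `X`. -/
theorem normal_triv_of {X : Type u} [Group X] [Finite X] (hM : IsPModular p M)
    (htwo : ∀ (A : Subgroup X) [A.Normal], A.index = 2 → ∀ (P : Sylow p X), Nat.card P = p →
      Subgroup.centralizer ((P : Subgroup X) : Set X) ≤ A →
      (Subgroup.centralizer ((P : Subgroup X) : Set X)).relIndex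
        (Subgroup.normalizer ((P : Subgroup X) : Set X)) = p - 1 →
      ∀ (θ : IrrCharacter A), θ ∈ principalBlock M A → ∀ (c : X) (s s' : A),
        ¬ p ∣ orderOf s → (s' : X) = c * s * c⁻¹ → (θ : A → ℂ) s' = (θ : A → ℂ) s)
    (C : Subgroup X) [C.Normal] (P : Sylow p X) (hP : Nat.card P = p) (hPC : (P : Subgroup X) ≤ C)
    (hE : p - 1 ≤ 2 * (Subgroup.centralizer ((P : Subgroup X) : Set X)).relIndex
      (Subgroup.normalizer ((P : Subgroup X) : Set X) ⊓ C))
    {ψ : IrrCharacter C} (hψ : ψ ∈ principalBlock M C) (c : X) (s s' : C) (hs : ¬ p ∣ orderOf s)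
    (hc : (s' : X) = c * s * c⁻¹) : (ψ : C → ℂ) s' = (ψ : C → ℂ) s := by
  have hAn := normal_sup C P hPC
  have hcases := index_cases C P hP hPC hE
  obtain ⟨θ, hθ, hres⟩ := exists_ext hM C P hPC rfl hψ
  have hCA : C ≤ C ⊔ Subgroup.centralizer ((P : Subgroup X) : Set X) := le_sup_left
  rw [← hres s (hCA s.2), ← hres s' (hCA s'.2)]
  rcases hcases with h1 | ⟨h2, hX⟩
  · have htop := Subgroup.index_eq_one.1 h1
    have hcA : c ∈ C ⊔ Subgroup.centralizer ((P : Subgroup X) : Set X) := by rw [htop]; trivial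
    have h3 : (⟨(s' : X), hCA s'.2⟩ : (C ⊔ Subgroup.centralizer ((P : Subgroup X) : Set X) :
        Subgroup X)) = ⟨c, hcA⟩ * ⟨(s : X), hCA s.2⟩ * ⟨c, hcA⟩⁻¹ := Subtype.ext hc
    rw [h3]
    exact Cfsg.Agent.Characters.Core.isIrr_isClassFunction θ.2 _ _
  · refine htwo _ h2 P hP le_sup_right hX θ hθ c ⟨s, hCA s.2⟩ ⟨s', hCA s'.2⟩ ?_ hc
    rwa [Subgroup.orderOf_mk, Subgroup.orderOf_coe]

end Cfsg.Agent.H590.OneP
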