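import Cfsg.Agent.S0960
import Cfsg.Agent.H611.CoverPrincipal
import Cfsg.Agent.CharDeep.CliffordCorr
import Cfsg.Agent.CharactersDeep.NormalInd
import Cfsg.Agent.Blocks.Orthogonality
import Cfsg.Agent.Blocks.PrincipalSection
import Cfsg.Agent.H590.OneP.NormalTriv

/-!
# S4880, pieces B8a and B8b: subgroups of index two, Sylow `p`-subgroup of order `p`
-/

set_option autoImplicit false

open Cfsg

namespace Cfsg.Agent.H590.OneP

open Cfsg.Agent.Characters.Core Cfsg.Agent.Blocks
open scoped ComplexConjugate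

universe u

section clifford

variable {X : Type u} [Group X] [Finite X] {A : Subgroup X} [A.Normal]

omit [Finite X] in
theorem inner_conj [Fintype A] {χ : X → ℂ} (hχ : IsClassFunction X χ) (n : X) (θ : IrrCharacter A) :
    classInner (fun a : A => χ a) (Covering.conjIrr A n θ : A → ℂ) =
      classInner (fun a : A => χ a) (θ : A → ℂ) := by
  rw [classInner_def, classInner_def]
  congr 1
  refine Fintype.sum_equiv (MulAut.conjNormal n : A ≃* A).toEquiv _ _ fun a => ?_
  rw [Covering.conjIrr_apply]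
  have h1 : χ ((MulAut.conjNormal n : A ≃* A).toEquiv a : A) = χ a := by
    have h2 : (((MulAut.conjNormal n : A ≃* A).toEquiv a : A) : X) = n * a * n⁻¹ :=
      MulAut.conjNormal_apply n a
    rw [h2]
    exact hχ a n
  rw [h1]
  rfl

/-- the number of characters over `θ` -/
theorem card_over_le [Fintype A] (hA : A.index = 2) (n : X) (θ : IrrCharacter A) [Fintype (IrrCharacter X)]
    (S : Finset (IrrCharacter X))
    (hS : ∀ χ ∈ S, classInner (fun a : A => (χ : X → ℂ) a) (θ : A → ℂ) ≠ 0) :
    S.card ≤ 2 ∧ (Covering.conjIrr A n θ ≠ θ → S.card ≤ 1) := by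
  classical
  have := Fintype.ofFinite X
  have := finite_irr (G := A)
  have := Fintype.ofFinite (IrrCharacter A)
  obtain ⟨c, hc, hc'⟩ := CharDeep.CliffordCorr.exists_nat_coeffs_indFun A (isIrr_isCharacter θ.2)
  choose d hd0 hd using fun η : IrrCharacter X => isIrr_apply_one η.2
  choose b hb0 hb using fun η : IrrCharacter A => isIrr_apply_one η.2
  have h1 := congrFun hc 1
  rw [CharactersDeep.NormalInd.indFun_one, hA, hb, Finset.sum_apply] at h1
  simp only [Pi.smul_apply, smul_eq_mul, hd] at h1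
  have h2 : 2 * b θ = ∑ η : IrrCharacter X, c η * d η := by exact_mod_cast h1
  have h3 : ∀ χ ∈ S, c χ ≠ 0 := by
    intro χ hχ h0
    apply hS χ hχ
    have h4 := hc' χ
    rw [h0, Nat.cast_zero] at h4
    rw [← classInner_conj_symm (θ : A → ℂ) (fun a : A => (χ : X → ℂ) a), h4, map_zero]
  -- degrees
  have h4 : ∀ χ ∈ S, b θ ≤ d χ ∧ (Covering.conjIrr A n θ ≠ θ → 2 * b θ ≤ d χ) := by
    intro χ hχ
    obtain ⟨m, hm⟩ := exists_nat_comb (isCharacter_comp A.subtype (isIrr_isCharacter χ.2))
    have hmE : (fun a : A => (χ : X → ℂ) a) = ∑ η : IrrCharacter A, m η • (η : A → ℂ) := hm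
    have hm1 : d χ = ∑ η : IrrCharacter A, m η * b η := by
      have h5 := congrFun hm 1
      rw [Function.comp_apply, map_one, hd, Finset.sum_apply] at h5
      have h6 : (d χ : ℂ) = ((∑ η : IrrCharacter A, m η * b η : ℕ) : ℂ) := by
        rw [h5]
        push_cast
        refine Finset.sum_congr rfl fun η _ => ?_
        rw [Pi.smul_apply, hb, nsmul_eq_mul]
      exact_mod_cast h6
    have hmθ : ∀ η : IrrCharacter A, classInner (fun a : A => (χ : X → ℂ) a) (η : A → ℂ) = m η := by
      intro η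
      rw [hmE, classInner_sum_nsmul_irr]
    have h7 : m θ ≠ 0 := by
      intro h0
      apply hS χ hχ
      rw [hmθ, h0, Nat.cast_zero]
    have h8 : m (Covering.conjIrr A n θ) ≠ 0 := by
      intro h0
      apply hS χ hχ
      rw [← inner_conj (isIrr_isClassFunction χ.2) n θ, hmθ, h0, Nat.cast_zero]
    have h9 : b (Covering.conjIrr A n θ) = b θ := by
      have := hb (Covering.conjIrr A n θ)
      rw [Covering.conjIrr_at_one, hb] at this
      exact_mod_cast this.symm
    constructor
    · rw [hm1]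
      calc b θ ≤ m θ * b θ := Nat.le_mul_of_pos_left _ (Nat.pos_of_ne_zero h7)
        _ ≤ _ := Finset.single_le_sum (f := fun η => m η * b η) (fun _ _ => Nat.zero_le _)
          (Finset.mem_univ _)
    · intro hne
      rw [hm1]
      have h10 : ∑ η ∈ ({Covering.conjIrr A n θ, θ} : Finset (IrrCharacter A)), m η * b η ≤
          ∑ η : IrrCharacter A, m η * b η := Finset.sum_le_sum_of_subset (Finset.subset_univ _)
      rw [Finset.sum_pair hne, h9] at h10
      refine le_trans ?_ h10
      have h11 := Nat.le_mul_of_pos_left (b θ) (Nat.pos_of_ne_zero h7)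
      have h12 := Nat.le_mul_of_pos_left (b θ) (Nat.pos_of_ne_zero h8)
      omega
  have h5 : ∀ w : ℕ, (∀ χ ∈ S, w * b θ ≤ d χ) → S.card * w ≤ 2 := by
    intro w hw
    have h6 : (S.card * w) * b θ ≤ 2 * b θ := by
      calc (S.card * w) * b θ = ∑ χ ∈ S, w * b θ := by rw [Finset.sum_const, smul_eq_mul, mul_assoc]
        _ ≤ ∑ χ ∈ S, c χ * d χ := Finset.sum_le_sum fun χ hχ =>
          (hw χ hχ).trans (Nat.le_mul_of_pos_left _ (Nat.pos_of_ne_zero (h3 χ hχ)))
        _ ≤ ∑ χ : IrrCharacter X, c χ * d χ := Finset.sum_le_sum_of_subset (Finset.subset_univ _)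
        _ = 2 * b θ := h2.symm
    exact Nat.le_of_mul_le_mul_right h6 (hb0 θ)
  constructor
  · have := h5 1 fun χ hχ => by rw [one_mul]; exact (h4 χ hχ).1
    omega
  · intro hne
    have := h5 2 fun χ hχ => (h4 χ hχ).2 hne
    omega

end clifford

variable {p : ℕ} [hp : Fact p.Prime] {M : Ideal AlgInt}

/-- The counting inequality. -/
theorem two_mul_card_le {X : Type u} [Group X] [Finite X] (hM : IsPModular p M) {A : Subgroup X}
    [A.Normal] (hA : A.index = 2) (n : X) (S : Finset (IrrCharacter A))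
    (hS : ∀ θ, θ ∈ S ↔ θ ∈ principalBlock M A ∧ Covering.conjIrr A n θ ≠ θ) :
    2 * Nat.card (principalBlock M X) + 3 * S.card ≤ 4 * Nat.card (principalBlock M A) := by
  classical
  have := Fintype.ofFinite X
  have := Fintype.ofFinite A
  have := finite_irr (G := A)
  have := Fintype.ofFinite (IrrCharacter A)
  have := finite_irr (G := X)
  have := Fintype.ofFinite (IrrCharacter X)
  set BX : Finset (IrrCharacter X) := Finset.univ.filter fun χ => χ ∈ principalBlock M X with hBX
  set BA : Finset (IrrCharacter A) := Finset.univ.filter fun χ => χ ∈ principalBlock M A with hBA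
  have hcX : Nat.card (principalBlock M X) = BX.card := by
    rw [Nat.card_eq_fintype_card]
    exact Fintype.card_subtype _
  have hcA : Nat.card (principalBlock M A) = BA.card := by
    rw [Nat.card_eq_fintype_card]
    exact Fintype.card_subtype _
  have hmA : ∀ θ, θ ∈ BA ↔ θ ∈ principalBlock M A := fun θ => by
    rw [hBA, Finset.mem_filter]
    exact ⟨fun h => h.2, fun h => ⟨Finset.mem_univ _, h⟩⟩
  have hmX : ∀ θ, θ ∈ BX ↔ θ ∈ principalBlock M X := fun θ => by
    rw [hBX, Finset.mem_filter]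
    exact ⟨fun h => h.2, fun h => ⟨Finset.mem_univ _, h⟩⟩
  let ov : IrrCharacter X → IrrCharacter A → Prop := fun χ θ =>
    classInner (fun a : A => (χ : X → ℂ) a) (θ : A → ℂ) ≠ 0
  let w : IrrCharacter A → ℕ := fun θ => if Covering.conjIrr A n θ = θ then 2 else 1
  have h1 : ∀ χ ∈ BX, 2 ≤ ∑ θ ∈ BA, if ov χ θ then w θ else 0 := by
    intro χ hχ
    -- a constituent
    obtain ⟨θ, hθ⟩ : ∃ θ, ov χ θ := by
      by_contra hcon
      have h2 : ∀ θ : IrrCharacter A, classInner (fun a : A => (χ : X → ℂ) a) (θ : A → ℂ) = 0 := fun θ => by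
        by_contra h
        exact hcon ⟨θ, h⟩
      obtain ⟨m, hm⟩ := exists_nat_comb (isCharacter_comp A.subtype (isIrr_isCharacter χ.2))
      have hmE : (fun a : A => (χ : X → ℂ) a) = ∑ η : IrrCharacter A, m η • (η : A → ℂ) := hm
      have h3 : ∀ θ, m θ = 0 := by
        intro θ
        have h4 := h2 θ
        rw [hmE, classInner_sum_nsmul_irr] at h4
        exact_mod_cast h4
      have h5 := congrFun hmE 1
      simp only [h3, zero_smul, Finset.sum_const_zero, Pi.zero_apply] at h5
      exact isIrr_apply_one_ne_zero χ.2 h5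
    have hθA : θ ∈ BA := (hmA θ).2
      (H611.CoverPrincipal.mem_principalBlock_of_over p hM A χ θ hθ ((hmX χ).1 hχ))
    by_cases hinv : Covering.conjIrr A n θ = θ
    · have h2 : (if ov χ θ then w θ else 0) = 2 := by
        rw [if_pos hθ]
        exact if_pos hinv
      rw [← h2]
      exact Finset.single_le_sum (f := fun θ => if ov χ θ then w θ else 0) (fun _ _ => Nat.zero_le _) hθA
    · have hθ' : ov χ (Covering.conjIrr A n θ) := by
        show classInner (fun a : A => (χ : X → ℂ) a) (Covering.conjIrr A n θ : A → ℂ) ≠ 0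
        rw [inner_conj (isIrr_isClassFunction χ.2)]
        exact hθ
      have hθA' : Covering.conjIrr A n θ ∈ BA :=
        (hmA _).2 (H611.CoverPrincipal.conjIrr_mem_principalBlock A n ((hmA θ).1 hθA))
      have h2 : ∑ θ ∈ ({Covering.conjIrr A n θ, θ} : Finset (IrrCharacter A)),
          (if ov χ θ then w θ else 0) ≤ ∑ θ ∈ BA, if ov χ θ then w θ else 0 := by
        refine Finset.sum_le_sum_of_subset ?_
        intro η hη
        rw [Finset.mem_insert, Finset.mem_singleton] at hη
        rcases hη with rfl | rfl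
        · exact hθA'
        · exact hθA
      refine le_trans ?_ h2
      rw [Finset.sum_pair hinv, if_pos hθ, if_pos hθ']
      have h3 : ∀ η, 1 ≤ w η := fun η => by
        show 1 ≤ if Covering.conjIrr A n η = η then 2 else 1
        split_ifs <;> omega
      have := h3 θ
      have := h3 (Covering.conjIrr A n θ)
      omega
  have h2 : 2 * BX.card ≤ ∑ θ ∈ BA, if Covering.conjIrr A n θ = θ then 4 else 1 := by
    calc 2 * BX.card = ∑ χ ∈ BX, 2 := by rw [Finset.sum_const, smul_eq_mul, mul_comm]
      _ ≤ ∑ χ ∈ BX, ∑ θ ∈ BA, (if ov χ θ then w θ else 0) := Finset.sum_le_sum h1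
      _ = ∑ θ ∈ BA, ∑ χ ∈ BX, (if ov χ θ then w θ else 0) := Finset.sum_comm
      _ ≤ ∑ θ ∈ BA, if Covering.conjIrr A n θ = θ then 4 else 1 := by
        refine Finset.sum_le_sum fun θ _ => ?_
        rw [← Finset.sum_filter, Finset.sum_const, smul_eq_mul]
        obtain ⟨h3, h4⟩ := card_over_le hA n θ (BX.filter fun χ => ov χ θ)
          fun χ hχ => (Finset.mem_filter.1 hχ).2
        by_cases hinv : Covering.conjIrr A n θ = θ
        · have h5 : w θ = 2 := if_pos hinv
          rw [if_pos hinv, h5]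
          omega
        · have h5 : w θ = 1 := if_neg hinv
          rw [if_neg hinv, h5]
          have := h4 hinv
          omega
  have h3 : ∑ θ ∈ BA, (if Covering.conjIrr A n θ = θ then 4 else 1) + 3 * S.card = 4 * BA.card := by
    have h4 : S = BA.filter fun θ => ¬ Covering.conjIrr A n θ = θ := by
      ext θ
      rw [hS, Finset.mem_filter, hmA]
    rw [h4, Finset.card_filter, Finset.mul_sum, ← Finset.sum_add_distrib]
    rw [show 4 * BA.card = ∑ θ ∈ BA, 4 by rw [Finset.sum_const, smul_eq_mul, mul_comm]]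
    refine Finset.sum_congr rfl fun θ _ => ?_
    by_cases hinv : Covering.conjIrr A n θ = θ
    · rw [if_pos hinv, if_neg (not_not.2 hinv), mul_zero, add_zero]
    · rw [if_neg hinv, if_pos hinv, mul_one]
  rw [hcX, hcA]
  omega

/-- The inertial index of a normal subgroup of index two containing `C_X(P)`. -/
theorem relIndex_half {X : Type u} [Group X] [Finite X]
    (A : Subgroup X) [A.Normal] (hA : A.index = 2) (P : Sylow p X) (hPA : (P : Subgroup X) ≤ A)
    (hcA : Subgroup.centralizer ((P : Subgroup X) : Set X) ≤ A)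
    (hX : (Subgroup.centralizer ((P : Subgroup X) : Set X)).relIndex
      (Subgroup.normalizer ((P : Subgroup X) : Set X)) = p - 1) :
    (Subgroup.centralizer (((P.subtype hPA : Sylow p A) : Subgroup A) : Set A)).relIndex
      (Subgroup.normalizer (((P.subtype hPA : Sylow p A) : Subgroup A) : Set A)) * 2 = p - 1 := by
  set Z := Subgroup.centralizer ((P : Subgroup X) : Set X) with hZ
  set N := Subgroup.normalizer ((P : Subgroup X) : Set X) with hN
  have hZN : Z ≤ N := Subgroup.centralizer_le_normalizer _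
  have h1 : Subgroup.centralizer (((P.subtype hPA : Sylow p A) : Subgroup A) : Set A) = Z.subgroupOf A := by
    ext a
    rw [Subgroup.mem_subgroupOf, hZ, Subgroup.mem_centralizer_iff, Subgroup.mem_centralizer_iff]
    constructor
    · intro h x hx
      exact congrArg Subtype.val (h ⟨x, hPA hx⟩ hx)
    · intro h x hx
      exact Subtype.ext (h x hx)
  have h2 : Subgroup.normalizer (((P.subtype hPA : Sylow p A) : Subgroup A) : Set A) = N.subgroupOf A := by
    rw [Sylow.coe_subtype, ← Subgroup.subgroupOf_normalizer_eq hPA]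
  have h3 : N.subgroupOf A = (N ⊓ A).subgroupOf A := by
    rw [Subgroup.inf_subgroupOf_right]
  rw [h1, h2, h3, Subgroup.relIndex_subgroupOf inf_le_right]
  have hAN : A ⊔ N = ⊤ := by
    rw [sup_comm]
    exact Sylow.normalizer_sup_eq_top' P hPA
  have h4 : A.index = A.relIndex N := by
    rw [← Subgroup.relIndex_top_right, ← hAN, Subgroup.relIndex_sup_left]
  have h5 : Z.relIndex (N ⊓ A) * (N ⊓ A).relIndex N = Z.relIndex N :=
    Subgroup.relIndex_mul_relIndex _ _ _ (le_inf hZN hcA) inf_le_left
  rwa [Subgroup.inf_relIndex_left, ← h4, hA, hX] at h5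

/-- B8a. Index two, Sylow `p`-subgroup of order `p`. -/
theorem index_two {X : Type u} [Group X] [Finite X] (hM : IsPModular p M) (hp2 : p ≠ 2)
    (A : Subgroup X) [A.Normal] (hA : A.index = 2) (P : Sylow p X) (hP : Nat.card P = p)
    (hcA : Subgroup.centralizer ((P : Subgroup X) : Set X) ≤ A)
    (hX : (Subgroup.centralizer ((P : Subgroup X) : Set X)).relIndex
      (Subgroup.normalizer ((P : Subgroup X) : Set X)) = p - 1)
    {θ : IrrCharacter A} (hθ : θ ∈ principalBlock M A) (c : X) (s s' : A) (hs : ¬ p ∣ orderOf s)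
    (hc : (s' : X) = c * s * c⁻¹) : (θ : A → ℂ) s' = (θ : A → ℂ) s := by
  classical
  have := Local.isPrime_of_isPModular hM
  have := Fintype.ofFinite X
  have := Fintype.ofFinite A
  have := finite_irr (G := A)
  have := Fintype.ofFinite (IrrCharacter A)
  have hcyc : IsCyclic P := isCyclic_of_prime_card hP
  -- a generator
  obtain ⟨u0, hu0⟩ := hcyc.exists_generator
  set u : X := (u0 : X) with hu
  have huP : u ∈ (P : Subgroup X) := u0.2
  have hgen : ∀ x ∈ (P : Subgroup X), x ∈ Subgroup.zpowers u := by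
    intro x hx
    obtain ⟨k, hk⟩ := hu0 ⟨x, hx⟩
    exact ⟨k, congrArg Subtype.val hk⟩
  have hou : orderOf u = p := by
    rw [hu, Subgroup.orderOf_coe]
    exact (orderOf_eq_card_of_forall_mem_zpowers hu0).trans hP
  have hPZ : (P : Subgroup X) ≤ Subgroup.centralizer ((P : Subgroup X) : Set X) := by
    intro x hx
    rw [Subgroup.mem_centralizer_iff]
    intro y hy
    obtain ⟨i, rfl⟩ := hgen x hx
    obtain ⟨j, rfl⟩ := hgen y hy
    show u ^ j * u ^ i = u ^ i * u ^ j
    rw [← zpow_add, ← zpow_add, add_comm]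
  have hPA : (P : Subgroup X) ≤ A := hPZ.trans hcA
  have hF : Subgroup.normalizer ((P : Subgroup X) : Set X) ⊔ A = ⊤ := Sylow.normalizer_sup_eq_top' P hPA
  obtain ⟨n, hn, hnA⟩ : ∃ n ∈ Subgroup.normalizer ((P : Subgroup X) : Set X), n ∉ A := by
    by_contra hcon
    push Not at hcon
    have h1 : Subgroup.normalizer ((P : Subgroup X) : Set X) ≤ A := hcon
    rw [sup_eq_right.2 h1] at hF
    rw [hF, Subgroup.index_top] at hA
    omega
  have huA : u ∈ A := hPA huP
  have hvA : n * u * n⁻¹ ∈ A := Subgroup.Normal.conj_mem inferInstance u huA n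
  set uA : A := ⟨u, huA⟩ with huAd
  set vA : A := ⟨n * u * n⁻¹, hvA⟩ with hvAd
  have hnconj : ¬ IsConj uA vA := by
    intro h
    obtain ⟨a, ha⟩ := isConj_iff.1 h
    have ha' : (a : X) * u * (a : X)⁻¹ = n * u * n⁻¹ := congrArg Subtype.val ha
    apply hnA
    have h1 : (a : X)⁻¹ * n ∈ Subgroup.centralizer ((P : Subgroup X) : Set X) := by
      have h2 : Commute ((a : X)⁻¹ * n) u := by
        show (a : X)⁻¹ * n * u = u * ((a : X)⁻¹ * n)
        calc (a : X)⁻¹ * n * u = (a : X)⁻¹ * (n * u * n⁻¹) * n := by group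
          _ = (a : X)⁻¹ * ((a : X) * u * (a : X)⁻¹) * n := by rw [ha']
          _ = u * ((a : X)⁻¹ * n) := by group
      rw [Subgroup.mem_centralizer_iff]
      intro y hy
      obtain ⟨j, rfl⟩ := hgen y hy
      exact (h2.zpow_right j).eq.symm
    have h3 := mul_mem a.2 (hcA h1)
    rwa [mul_inv_cancel_left] at h3
  -- orders
  have houA : orderOf uA = p := by rw [huAd, Subgroup.orderOf_mk, hou]
  have hovA : orderOf vA = p := by
    rw [hvAd, Subgroup.orderOf_mk]
    have : orderOf (n * u * n⁻¹) = orderOf u := orderOf_injective (MulAut.conj n).toMonoidHom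
      (MulAut.conj n).injective u
    rw [this, hou]
  have hB : IsPBlock M (principalBlock M A) := PrincipalSection.isPBlock_principalBlock
  have hR : ∀ g, MemLocalRing M (blockCoeff (principalBlock M A) g) :=
    fun g => Osima.memLocalRing_blockCoeff hM hB g
  have hsum : ∀ (f : IrrCharacter A → ℂ), ∑ᶠ χ ∈ principalBlock M A, f χ =
      ∑ χ ∈ Finset.univ.filter (fun χ => χ ∈ principalBlock M A), f χ := by
    intro f
    rw [finsum_mem_eq_finite_toFinset_sum _ (Set.toFinite _)]
    refine Finset.sum_congr ?_ fun _ _ => rfl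
    ext χ
    rw [Set.Finite.mem_toFinset, Finset.mem_filter]
    exact ⟨fun h => ⟨Finset.mem_univ _, h⟩, fun h => h.2⟩
  set BA : Finset (IrrCharacter A) := Finset.univ.filter fun χ => χ ∈ principalBlock M A with hBA
  have hmA : ∀ θ, θ ∈ BA ↔ θ ∈ principalBlock M A := fun θ => by
    rw [hBA, Finset.mem_filter]
    exact ⟨fun h => h.2, fun h => ⟨Finset.mem_univ _, h⟩⟩
  -- an element of the block with different values
  obtain ⟨η, hη, hηuv⟩ : ∃ η ∈ BA, (η : A → ℂ) uA ≠ (η : A → ℂ) vA := by
    by_contra hcon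
    push Not at hcon
    have h1 := Orthogonality.block_orthogonality hM (principalBlock M A) hR
      (PPart.isPPart_of_isPGroup ⟨1, by rw [houA, pow_one]⟩)
      (PPart.isPPart_of_isPGroup ⟨1, by rw [hovA, pow_one]⟩) hnconj
    rw [hsum] at h1
    have h2 : ∑ χ ∈ BA, ((Complex.normSq ((χ : A → ℂ) uA) : ℝ) : ℂ) = 0 := by
      rw [← h1]
      refine Finset.sum_congr rfl fun χ hχ => ?_
      rw [← hcon χ hχ, Complex.mul_conj]
    have h3 : ∑ χ ∈ BA, Complex.normSq ((χ : A → ℂ) uA) = 0 := by exact_mod_cast h2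
    have h4 := (Finset.sum_eq_zero_iff_of_nonneg fun χ _ => Complex.normSq_nonneg _).1 h3
      ⟨fun _ => 1, Basic.isIrrCharacter_one⟩ ((hmA _).2 PrincipalSection.one_mem_principalBlock)
    simp at h4
  -- the characters of the block which are not invariant
  set S : Finset (IrrCharacter A) := BA.filter fun θ => Covering.conjIrr A n θ ≠ θ with hS
  have hmS : ∀ θ, θ ∈ S ↔ θ ∈ principalBlock M A ∧ Covering.conjIrr A n θ ≠ θ := fun θ => by
    rw [hS, Finset.mem_filter, hmA]
  have hcount := two_mul_card_le hM hA n S hmS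
  have hkX := (Cfsg.Agent.S0960.result p M hM hp2 P hP (p - 1) hX).1
  have hp3 : 3 ≤ p := by
    have := hp.out.two_le
    omega
  rw [Nat.div_self (by omega)] at hkX
  have hhalf := relIndex_half A hA P hPA hcA hX
  have hPc : Nat.card (P.subtype hPA : Sylow p A) = p := by
    rw [Sylow.coe_subtype] at *
    exact (Nat.card_congr (Subgroup.subgroupOfEquivOfLe hPA).toEquiv).trans hP
  set e := (Subgroup.centralizer (((P.subtype hPA : Sylow p A) : Subgroup A) : Set A)).relIndex
      (Subgroup.normalizer (((P.subtype hPA : Sylow p A) : Subgroup A) : Set A)) with he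
  have hkA := (Cfsg.Agent.S0960.result p M hM hp2 (P.subtype hPA) hPc e he.symm).1
  have he0 : 0 < e := by omega
  have hdiv : (p - 1) / e = 2 := by
    rw [← hhalf, Nat.mul_div_cancel_left _ he0]
  rw [hdiv] at hkA
  have hScard : S.card ≤ 2 := by omega
  -- the two characters
  have hηv : ∀ a : A, (Covering.conjIrr A n η : A → ℂ) a =
      (η : A → ℂ) ⟨n * a * n⁻¹, Subgroup.Normal.conj_mem inferInstance (a : X) a.2 n⟩ := by
    intro a
    rw [Covering.conjIrr_apply]
    exact congrArg (η : A → ℂ) (Subtype.ext (MulAut.conjNormal_apply n a))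
  have hne : Covering.conjIrr A n η ≠ η := by
    intro h
    apply hηuv
    have h1 := hηv uA
    rw [h] at h1
    exact h1
  have hnn : n * n ∈ A := (Subgroup.mul_mem_iff_of_index_two hA).2 Iff.rfl
  have hconj2 : Covering.conjIrr A n (Covering.conjIrr A n η) = η := by
    rw [Covering.conjIrr_conjIrr]
    apply Subtype.ext
    funext a
    rw [Covering.conjIrr_apply]
    have h1 : MulAut.conjNormal (n * n) a = (⟨n * n, hnn⟩ : A) * a * (⟨n * n, hnn⟩ : A)⁻¹ :=
      Subtype.ext (MulAut.conjNormal_apply (n * n) a)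
    rw [h1]
    exact isIrr_isClassFunction η.2 _ _
  have hSeq : S = {Covering.conjIrr A n η, η} := by
    symm
    apply Finset.eq_of_subset_of_card_le
    · intro ζ hζ
      rw [Finset.mem_insert, Finset.mem_singleton] at hζ
      rcases hζ with rfl | rfl
      · rw [hmS]
        refine ⟨H611.CoverPrincipal.conjIrr_mem_principalBlock A n ((hmA η).1 hη), ?_⟩
        rw [hconj2]
        exact hne.symm
      · rw [hmS]
        exact ⟨(hmA _).1 hη, hne⟩
    · rw [Finset.card_pair hne]
      exact hScard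
  -- values at regular elements
  have key : ∀ t : A, ¬ p ∣ orderOf t → (Covering.conjIrr A n η : A → ℂ) t = (η : A → ℂ) t := by
    intro t ht
    have h1 := Orthogonality.weak_block_orthogonality hM (principalBlock M A) hR ht (y := uA) (by rw [houA])
    have h2 := Orthogonality.weak_block_orthogonality hM (principalBlock M A) hR ht (y := vA) (by rw [hovA])
    rw [hsum] at h1 h2
    have h3 : ∑ χ ∈ BA, (χ : A → ℂ) t * conj ((χ : A → ℂ) uA - (χ : A → ℂ) vA) = 0 := by
      rw [← sub_zero (0 : ℂ)]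
      nth_rewrite 1 [← h1]
      rw [← h2, ← Finset.sum_sub_distrib]
      refine Finset.sum_congr rfl fun χ _ => ?_
      rw [map_sub, mul_sub]
    have h4 : ∑ χ ∈ BA, (χ : A → ℂ) t * conj ((χ : A → ℂ) uA - (χ : A → ℂ) vA) =
        ∑ χ ∈ S, (χ : A → ℂ) t * conj ((χ : A → ℂ) uA - (χ : A → ℂ) vA) := by
      rw [hS, Finset.sum_filter (s := BA) (p := fun θ => Covering.conjIrr A n θ ≠ θ)]
      refine Finset.sum_congr rfl fun χ _ => ?_
      by_cases hinv : Covering.conjIrr A n χ = χ
      · rw [if_neg (not_not.2 hinv)]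
        have h5 : (χ : A → ℂ) uA = (χ : A → ℂ) vA := by
          have h6 : (Covering.conjIrr A n χ : A → ℂ) uA = (χ : A → ℂ) vA := by
            rw [Covering.conjIrr_apply]
            exact congrArg (χ : A → ℂ) (Subtype.ext (MulAut.conjNormal_apply n uA))
          rw [← h6, hinv]
        rw [h5, sub_self, map_zero, mul_zero]
      · rw [if_pos hinv]
    rw [h4, hSeq, Finset.sum_pair hne] at h3
    have h5 : (Covering.conjIrr A n η : A → ℂ) uA = (η : A → ℂ) vA := hηv uA
    have h6 : (Covering.conjIrr A n η : A → ℂ) vA = (η : A → ℂ) uA := by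
      have h7 : (Covering.conjIrr A n (Covering.conjIrr A n η) : A → ℂ) uA =
          (Covering.conjIrr A n η : A → ℂ) vA := by
        rw [Covering.conjIrr_apply]
        exact congrArg (Covering.conjIrr A n η : A → ℂ) (Subtype.ext (MulAut.conjNormal_apply n uA))
      rw [← h7, hconj2]
    rw [h5, h6] at h3
    have h7 : ((η : A → ℂ) t - (Covering.conjIrr A n η : A → ℂ) t) *
        conj ((η : A → ℂ) uA - (η : A → ℂ) vA) = 0 := by
      rw [← h3, map_sub, map_sub]
      ring
    rcases mul_eq_zero.1 h7 with h8 | h8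
    · exact (sub_eq_zero.1 h8).symm
    · exfalso
      apply hηuv
      rw [map_eq_zero] at h8
      exact sub_eq_zero.1 h8
  -- all members of the block are invariant on regular elements
  have key2 : ∀ χ ∈ BA, ∀ t : A, ¬ p ∣ orderOf t →
      (χ : A → ℂ) ⟨n * t * n⁻¹, Subgroup.Normal.conj_mem inferInstance (t : X) t.2 n⟩ = (χ : A → ℂ) t := by
    intro χ hχ t ht
    have h0 : (Covering.conjIrr A n χ : A → ℂ) t =
        (χ : A → ℂ) ⟨n * t * n⁻¹, Subgroup.Normal.conj_mem inferInstance (t : X) t.2 n⟩ := by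
      rw [Covering.conjIrr_apply]
      exact congrArg (χ : A → ℂ) (Subtype.ext (MulAut.conjNormal_apply n t))
    rw [← h0]
    by_cases hinv : Covering.conjIrr A n χ = χ
    · rw [hinv]
    · have h1 : χ ∈ S := (hmS χ).2 ⟨(hmA χ).1 hχ, hinv⟩
      rw [hSeq, Finset.mem_insert, Finset.mem_singleton] at h1
      rcases h1 with rfl | rfl
      · rw [hconj2]
        exact (key t ht).symm
      · exact key t ht
  -- the general element
  by_cases hcm : c ∈ A
  · have h1 : s' = (⟨c, hcm⟩ : A) * s * (⟨c, hcm⟩ : A)⁻¹ := Subtype.ext hc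
    rw [h1]
    exact isIrr_isClassFunction θ.2 _ _
  · have h1 : c * n⁻¹ ∈ A := (Subgroup.mul_mem_iff_of_index_two hA).2
      ⟨fun h => absurd h hcm, fun h => absurd (by simpa using inv_mem h) hnA⟩
    have h2 : s' = (⟨c * n⁻¹, h1⟩ : A) *
        ⟨n * s * n⁻¹, Subgroup.Normal.conj_mem inferInstance (s : X) s.2 n⟩ * (⟨c * n⁻¹, h1⟩ : A)⁻¹ := by
      apply Subtype.ext
      rw [hc]
      show c * s * c⁻¹ = c * n⁻¹ * (n * s * n⁻¹) * (c * n⁻¹)⁻¹
      group
    rw [h2, isIrr_isClassFunction θ.2, key2 θ ((hmA θ).2 hθ) s hs]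

/-- B8b. Normal subgroup `C` with Sylow `p`-subgroup of order `p` and large inertial index. -/
theorem normal_triv {X : Type u} [Group X] [Finite X] (hM : IsPModular p M) (hp2 : p ≠ 2)
    (C : Subgroup X) [C.Normal] (P : Sylow p X) (hP : Nat.card P = p) (hPC : (P : Subgroup X) ≤ C)
    (hE : p - 1 ≤ 2 * (Subgroup.centralizer ((P : Subgroup X) : Set X)).relIndex
      (Subgroup.normalizer ((P : Subgroup X) : Set X) ⊓ C))
    {ψ : IrrCharacter C} (hψ : ψ ∈ principalBlock M C) (c : X) (s s' : C) (hs : ¬ p ∣ orderOf s)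
    (hc : (s' : X) = c * s * c⁻¹) : (ψ : C → ℂ) s' = (ψ : C → ℂ) s :=
  normal_triv_of hM (fun A _ hA P hP hcA hX _ hθ c s s' hs hc =>
    index_two hM hp2 A hA P hP hcA hX hθ c s s' hs hc) C P hP hPC hE hψ c s s' hs hc

end Cfsg.Agent.H590.OneP
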